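import Mathlib
import Cfsg.Agent.Lib.ABG.Defs
import Cfsg.Agent.Lib.ABG.Model1
import Cfsg.Agent.Lib.ABG.ModelT
import Cfsg.Agent.Lib.ABG.Model2d

/-!
ABG, package MODEL: elementary consequences of the local data (collects `Model1`, `ModelT`,
`Model2b`, `Model2c`, `Model2d`).  See `plans/ABG.md`.
-/
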