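import Mathlib
import Cfsg.Agent.Lib.ABG.S1Ga
import Cfsg.Agent.Lib.ABG.S1Gb
import Cfsg.Agent.Lib.ABG.S1Gc

/-!
ABG, package STEP1: general lemmas (the three parts together).
-/
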