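import Mathlib
import Cfsg.Agent.Lib.DihSyl.Basic
import Cfsg.Agent.Lib.Classical.SLCard
import Cfsg.Agent.Lib.Unitary.Center
import Cfsg.Agent.Lib.Unitary.Field
import Cfsg.Agent.Lib.GW.Cor2
import Cfsg.Agent.S0243
import Cfsg.Agent.S0434
import Cfsg.Agent.S0435

/-!
Groups whose Sylow subgroups of odd order are cyclic: closure properties and groups that are not
of this kind.
-/

set_option autoImplicit false

namespace CfsgLib.ABG.Asc

open Subgroup Cfsg
open scoped MatrixGroups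

/-- all subgroups of odd prime power order are cyclic -/
def OC (G : Type*) [Group G] : Prop :=
  ∀ p : ℕ, p.Prime → p ≠ 2 → ∀ P : Subgroup G, IsPGroup p P → IsCyclic P

variable {G H : Type*} [Group G] [Group H]

theorem mem_zpowers_of_isCyclic [Finite G] {A : Subgroup G} (hA : IsCyclic A) {u v : G} (hu : u ∈ A)
    (hv : v ∈ A) (h : orderOf u ∣ orderOf v) : u ∈ zpowers v := by
  obtain ⟨b, hb⟩ := (isCyclic_iff_exists_zpowers_eq_top (α := A)).1 hA
  have key : ∀ w ∈ A, w ∈ zpowers (b : G) := fun w hw => by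
    obtain ⟨k, hk⟩ := (hb ▸ mem_top (⟨w, hw⟩ : A) : (⟨w, hw⟩ : A) ∈ zpowers b)
    exact ⟨k, congrArg Subtype.val hk⟩
  exact DihSyl.mem_zpowers_of_orderOf_dvd (isOfFinOrder_of_finite _) (key u hu) (key v hv) h

theorem OC.of_sylow (h : ∀ p : ℕ, p.Prime → p ≠ 2 → ∀ P : Sylow p G, IsCyclic P) : OC G := by
  intro p hp h2 P hP
  obtain ⟨Q, hQ⟩ := hP.exists_le_sylow
  have := h p hp h2 Q
  exact isCyclic_of_injective (inclusion hQ) (inclusion_injective hQ)

theorem OC.of_injective (h : OC G) (f : H →* G) (hf : Function.Injective f) : OC H := by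
  intro p hp h2 P hP
  have := h p hp h2 (P.map f) (hP.map f)
  exact isCyclic_of_injective (P.equivMapOfInjective f hf).toMonoidHom
    (P.equivMapOfInjective f hf).injective

theorem OC.of_surjective [Finite G] (h : OC G) (f : G →* H) (hf : Function.Surjective f) :
    OC H := by
  have : Finite H := Finite.of_surjective f hf
  refine OC.of_sylow fun p hp h2 P => ?_
  have : Fact p.Prime := ⟨hp⟩
  obtain ⟨Q, rfl⟩ := Sylow.mapSurjective_surjective hf p P
  have := h p hp h2 Q Q.isPGroup'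
  exact isCyclic_of_surjective (f.subgroupMap Q) (f.subgroupMap_surjective Q)

theorem OC.mem_zpowers [Finite G] (h : OC G) {p : ℕ} (hp : p.Prime) (h2 : p ≠ 2) {a b : G}
    (ha : orderOf a = p) (hb : orderOf b = p) (hab : Commute a b) : b ∈ zpowers a := by
  have : Fact p.Prime := ⟨hp⟩
  have p1 : ∀ {v : G}, orderOf v = p → IsPGroup p (zpowers v) := fun hv =>
    IsPGroup.of_card (n := 1) (by rw [Nat.card_zpowers, hv, pow_one])
  have hn : zpowers a ≤ normalizer (zpowers b : Set G) := by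
    refine zpowers_le.2 (centralizer_le_normalizer _ ?_)
    rw [mem_centralizer_iff]
    rintro _ ⟨j, rfl⟩
    exact (hab.zpow_right j).eq.symm
  exact mem_zpowers_of_isCyclic (h p hp h2 _ (IsPGroup.to_sup_of_normal_right' (p1 ha) (p1 hb) hn))
    (mem_sup_right (Subgroup.mem_zpowers b)) (mem_sup_left (Subgroup.mem_zpowers a)) (by rw [ha, hb])

theorem OC.not_sq_dvd [Finite H] (h : OC G) (f : H →* G) (hf : Function.Surjective f) {p : ℕ}
    (hp : p.Prime) (h2 : p ≠ 2) (hexp : ∀ (x : H) (k : ℕ), x ^ p ^ k = 1 → x ^ p = 1) :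
    ¬ p ^ 2 ∣ Nat.card G := by
  have : Fact p.Prime := ⟨hp⟩
  have : Finite G := Finite.of_surjective f hf
  intro hd
  obtain ⟨P⟩ : Nonempty (Sylow p H) := inferInstance
  let Q := P.mapSurjective hf
  have hc := h p hp h2 Q Q.isPGroup'
  obtain ⟨g, hg⟩ := hc.exists_ofOrder_eq_natCard
  have h1 : p ^ 2 ∣ Nat.card Q := by
    rw [Q.card_eq_multiplicity]
    exact pow_dvd_pow p ((hp.pow_dvd_iff_le_factorization Nat.card_pos.ne').1 hd)
  obtain ⟨x, hx, e⟩ := g.2
  obtain ⟨k, hk⟩ := P.isPGroup' ⟨x, hx⟩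
  have h3 : g ^ p = 1 := by
    apply Subtype.ext
    rw [Subgroup.coe_pow, ← e, ← map_pow, hexp x k (congrArg Subtype.val hk), map_one]
    rfl
  have h4 : p ^ 2 ∣ p ^ 1 := by
    rw [pow_one]
    exact h1.trans (hg ▸ orderOf_dvd_of_pow_eq_one h3)
  have := (Nat.pow_dvd_pow_iff_le_right hp.one_lt).1 h4
  omega

theorem sl_pow_char {F : Type*} [Field F] {p : ℕ} [hp : Fact p.Prime] [CharP F p] {d : ℕ}
    (hd : d ≤ p) (u : SL(d, F)) (k : ℕ) (h : u ^ p ^ k = 1) : u ^ p = 1 := by
  rcases Nat.eq_zero_or_pos d with rfl | hd0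
  · exact Subsingleton.elim _ _
  have : Nonempty (Fin d) := ⟨⟨0, hd0⟩⟩
  have : CharP (Matrix (Fin d) (Fin d) F) p := Matrix.charP p
  have key : ∀ j : ℕ, u ^ p ^ j = 1 ↔ ((u : Matrix (Fin d) (Fin d) F) - 1) ^ p ^ j = 0 := by
    intro j
    rw [sub_pow_char_pow_of_commute _ _ (Commute.one_right _), one_pow, sub_eq_zero,
      ← Matrix.SpecialLinearGroup.coe_pow]
    exact Subtype.ext_iff
  have hu : IsNilpotent ((u : Matrix (Fin d) (Fin d) F) - 1) := ⟨_, (key k).1 h⟩
  have h3 : ((u : Matrix (Fin d) (Fin d) F) - 1) ^ d = 0 := by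
    have h1 := Matrix.aeval_self_charpoly ((u : Matrix (Fin d) (Fin d) F) - 1)
    have h2 : ((u : Matrix (Fin d) (Fin d) F) - 1).charpoly = Polynomial.X ^ d := by
      have := (Matrix.isNilpotent_charpoly_sub_pow_of_isNilpotent hu).eq_zero
      rw [sub_eq_zero] at this
      simpa using this
    rw [h2] at h1
    simpa using h1
  have := (key 1).2 (pow_eq_zero_of_le (by simpa using hd) h3)
  simpa using this

theorem exists_char {F : Type*} [Field F] [Fintype F] (h : Odd (Fintype.card F)) :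
    ∃ p k : ℕ, p.Prime ∧ p ≠ 2 ∧ CharP F p ∧ Fintype.card F = p ^ (k + 1) := by
  obtain ⟨p, hp, k, hk, h1⟩ := FiniteField.card' F
  refine ⟨p, k - 1, hk, ?_, hp, ?_⟩
  · rintro rfl
    rw [h1] at h
    exact (Nat.not_odd_iff_even.2 (Nat.even_pow.2 ⟨even_two, k.ne_zero⟩)) h
  · rw [h1]
    congr 1
    have := k.pos
    omega

theorem prime_card_of_psl2 {F : Type*} [Field F] [Fintype F] (hodd : Odd (Fintype.card F))
    (h : OC PSL(2, F)) : (Fintype.card F).Prime := by
  obtain ⟨p, k, hp, h2, _, hc⟩ := exists_char hodd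
  have : Fact p.Prime := ⟨hp⟩
  rcases k with _ | k
  · rw [hc]; simpa using hp
  exfalso
  refine h.not_sq_dvd (QuotientGroup.mk' _) (QuotientGroup.mk'_surjective _) hp h2
    (sl_pow_char hp.two_le) ?_
  have h1 := CfsgLib.GW.Cor.card_psl2 hodd
  refine (Nat.Coprime.dvd_mul_left (m := 2) (Nat.Coprime.pow_left _
    ((Nat.coprime_primes hp Nat.prime_two).2 h2))).1 ?_
  rw [h1]
  exact Dvd.dvd.mul_right (hc ▸ pow_dvd_pow p (by omega)) _

theorem three_le {p : ℕ} (hp : p.Prime) (h2 : p ≠ 2) : 3 ≤ p := by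
  have := hp.two_le
  omega

theorem not_OC_psl3 {F : Type*} [Field F] [Fintype F] (hodd : Odd (Fintype.card F)) :
    ¬ OC PSL(3, F) := by
  intro h
  obtain ⟨p, k, hp, h2, _, hc⟩ := exists_char hodd
  have : Fact p.Prime := ⟨hp⟩
  refine h.not_sq_dvd (QuotientGroup.mk' _) (QuotientGroup.mk'_surjective _) hp h2
    (sl_pow_char (three_le hp h2)) ?_
  have h1 := Cfsg.Agent.S0243.result (F := F) rfl 3 (by norm_num)
  set q := Fintype.card F with hq
  have hpq : p ∣ q := hc ▸ dvd_pow_self p (by omega)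
  have hq1 : 1 ≤ q := Fintype.card_pos
  have hco : p.Coprime (q - 1) := by
    rw [hp.coprime_iff_not_dvd]
    intro hd
    have := Nat.dvd_sub hpq hd
    rw [Nat.sub_sub_self hq1] at this
    exact hp.one_lt.ne' (Nat.dvd_one.1 this)
  have hco2 : p.Coprime (Nat.gcd 3 (q - 1)) := hco.coprime_dvd_right (Nat.gcd_dvd_right _ _)
  refine ((hco.pow_left 2).dvd_mul_left).1 (((hco2.pow_left 2).dvd_mul_left).1 ?_)
  rw [h1, Fin.prod_univ_three, pow_two p, mul_assoc]
  refine Dvd.dvd.mul_left (mul_dvd_mul ?_ ?_) _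
  · exact Nat.dvd_sub (hpq.trans (dvd_pow_self q (by norm_num))) (hpq.trans (dvd_pow_self q (by simp)))
  · exact Nat.dvd_sub (hpq.trans (dvd_pow_self q (by norm_num))) (hpq.trans (dvd_pow_self q (by simp)))

theorem not_OC_psu3 {F : Type*} [Field F] [Fintype F] {q : ℕ} (hF : Fintype.card F = q ^ 2)
    (hodd : Odd q) : ¬ OC (PSU 3 F q) := by
  intro h
  obtain ⟨p, k, hp, _, hk, hc⟩ := CfsgLib.Unitary.exists_char hF
  have : Fact p.Prime := ⟨hp⟩
  have hpq : p ∣ q := hc ▸ dvd_pow_self p hk.ne'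
  have h2 : p ≠ 2 := by
    rintro rfl
    exact (Nat.not_even_iff_odd.2 hodd) (even_iff_two_dvd.2 hpq)
  refine h.not_sq_dvd (QuotientGroup.mk' _) (QuotientGroup.mk'_surjective _) hp h2
    (fun x j hx => Subtype.ext (sl_pow_char (three_le hp h2) x.1 j (congrArg Subtype.val hx))) ?_
  have h1 := CfsgLib.Unitary.card_PSU (n := 3) hF (by norm_num)
  have hco : p.Coprime (q + 1) := by
    rw [hp.coprime_iff_not_dvd]
    intro hd
    exact hp.one_lt.ne' (Nat.dvd_one.1 ((Nat.dvd_add_right hpq).1 hd))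
  have hco2 : p.Coprime (Nat.gcd 3 (q + 1)) := hco.coprime_dvd_right (Nat.gcd_dvd_right _ _)
  refine ((hco.pow_left 2).dvd_mul_left).1 (((hco2.pow_left 2).dvd_mul_left).1 ?_)
  rw [h1]
  exact Dvd.dvd.mul_right ((pow_dvd_pow_of_dvd hpq 2).trans (pow_dvd_pow q (by norm_num))) _

theorem not_OC_A7 : ¬ OC (alternatingGroup (Fin 7)) := by
  intro h
  let a : alternatingGroup (Fin 7) := ⟨Equiv.swap 0 1 * Equiv.swap 1 2, by
    rw [Equiv.Perm.mem_alternatingGroup]; decide⟩
  let b : alternatingGroup (Fin 7) := ⟨Equiv.swap 3 4 * Equiv.swap 4 5, by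
    rw [Equiv.Perm.mem_alternatingGroup]; decide⟩
  have : Fact (Nat.Prime 3) := ⟨Nat.prime_three⟩
  have ha : orderOf a = 3 := orderOf_eq_prime (Subtype.ext (by decide)) (fun e => by
    have := congrArg (fun g : alternatingGroup (Fin 7) => (g : Equiv.Perm (Fin 7)) 0) e
    revert this; decide)
  have hb : orderOf b = 3 := orderOf_eq_prime (Subtype.ext (by decide)) (fun e => by
    have := congrArg (fun g : alternatingGroup (Fin 7) => (g : Equiv.Perm (Fin 7)) 3) e
    revert this; decide)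
  obtain ⟨j, hj⟩ := h.mem_zpowers Nat.prime_three (by norm_num) ha hb (Subtype.ext (by decide))
  have h1 : (a : Equiv.Perm (Fin 7)) 3 = 3 := by decide
  have h2 := Equiv.Perm.zpow_apply_eq_self_of_apply_eq_self h1 j
  have h3 : ((a ^ j : alternatingGroup (Fin 7)) : Equiv.Perm (Fin 7)) 3 = 3 := h2
  rw [show a ^ j = b from hj] at h3
  revert h3; decide

theorem not_OC_M11 [Finite G] (hG : IsM11 G) : ¬ OC G := by
  intro h
  have : Fact (Nat.Prime 3) := ⟨Nat.prime_three⟩
  obtain ⟨P⟩ : Nonempty (Sylow 3 G) := inferInstance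
  have hc := h 3 Nat.prime_three (by norm_num) P P.isPGroup'
  have hP : Nat.card (P : Subgroup G) = 9 := by
    rw [P.card_eq_multiplicity, hG.2]
    have : Nat.factorization 7920 3 = 2 := by
      rw [show 7920 = 3 ^ 2 * 880 by norm_num, Nat.factorization_mul (by norm_num) (by norm_num),
        Nat.Prime.factorization_pow Nat.prime_three]
      simp [Nat.factorization_eq_zero_of_not_dvd (by norm_num : ¬ 3 ∣ 880)]
    rw [this]; norm_num
  have hN := Cfsg.Agent.S0434.result hG P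
  let f := (P : Subgroup G).normalizerMonoidHom
  have h1 : f.ker.index ∣ 6 := by
    rw [index_ker]
    have := card_subgroup_dvd_card f.range
    rwa [IsCyclic.card_mulAut, hP] at this
  have h2 := f.ker.card_mul_index
  rw [hN] at h2
  have h3 : 2 ∣ Nat.card f.ker := by
    by_contra h3
    have h4 : Nat.Coprime (2 ^ 2) (Nat.card f.ker) :=
      Nat.Coprime.pow_left _ ((Nat.prime_two.coprime_iff_not_dvd).2 h3)
    have h5 : 2 ^ 2 ∣ f.ker.index := h4.dvd_mul_left.1 (h2 ▸ by norm_num)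
    exact absurd (h5.trans h1) (by norm_num)
  obtain ⟨t, ht⟩ := exists_prime_orderOf_dvd_card' 2 h3
  have h4 : orderOf ((t : normalizer ((P : Subgroup G) : Set G)) : G) = 2 := by
    rw [orderOf_coe, orderOf_coe, ht]
  have h5 := Cfsg.Agent.S0435.result hG _ h4
  have h6 : (P : Subgroup G) ≤ centralizer {((t : normalizer ((P : Subgroup G) : Set G)) : G)} := by
    intro x hx
    have h7 := (normalizerMonoidHom_ker (P : Subgroup G)).le t.2
    rw [mem_subgroupOf, mem_centralizer_iff] at h7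
    exact mem_centralizer_singleton_iff.2 (h7 x hx)
  have := card_dvd_of_le h6
  rw [hP, h5] at this
  norm_num at this

end CfsgLib.ABG.Asc
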