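import Mathlib
import Cfsg.Agent.Lib.ABG.Asc1
import Cfsg.Agent.Lib.Frob.CyclicIndex
import Cfsg.Agent.Lib.Frob.Quaternion
import Cfsg.Agent.Lib.Fusion.TwoSimple
import Cfsg.Agent.Lib.Transfer.Focal
import Cfsg.Agent.Lib.Fgs.AutBound
import Cfsg.Agent.Lib.TwoGrp.Herzog
import Cfsg.Agent.Lib.Char.Taketa
import Cfsg.Agent.Lib.GW.Main
import Cfsg.Agent.S0813

/-!
Groups with cyclic Sylow subgroups of odd order whose Sylow 2-subgroups have a cyclic subgroup of
index at most 2.
-/

set_option autoImplicit false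

namespace CfsgLib.ABG.Asc

open Subgroup Cfsg CfsgLib.GW
open scoped MatrixGroups commutatorElement

universe u

/-- every 2-subgroup has a cyclic subgroup of index at most 2 -/
def CI (G : Type*) [Group G] : Prop :=
  ∀ R : Subgroup G, IsPGroup 2 R → ∃ A : Subgroup R, IsCyclic A ∧ A.index ∣ 2

section
variable {G H : Type*} [Group G] [Group H]

theorem exists_comap {A : Subgroup G} (hA : IsCyclic A) (hi : A.index ∣ 2) (f : H →* G)
    (hf : Function.Injective f) : ∃ B : Subgroup H, IsCyclic B ∧ B.index ∣ 2 := by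
  have hn : A.Normal := by
    rcases (Nat.dvd_prime Nat.prime_two).1 hi with h | h
    · rw [index_eq_one.1 h]; infer_instance
    · exact normal_of_index_eq_two h
  refine ⟨A.comap f, isCyclic_of_injective (f.subgroupComap A) ?_, ?_⟩
  · intro a b h
    exact Subtype.ext (hf (congrArg Subtype.val h))
  · rw [index_comap]
    exact (relIndex_dvd_index_of_normal _ _).trans hi

theorem CI.of_sylow (h : ∀ S : Sylow 2 G, ∃ C : Subgroup (S : Subgroup G), IsCyclic C ∧ C.index ∣ 2) :
    CI G := by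
  intro R hR
  obtain ⟨S, hS⟩ := hR.exists_le_sylow
  obtain ⟨C, h1, h2⟩ := h S
  exact exists_comap h1 h2 (inclusion hS) (inclusion_injective hS)

theorem CI.of_injective (h : CI G) (f : H →* G) (hf : Function.Injective f) : CI H := by
  intro R hR
  obtain ⟨C, h1, h2⟩ := h (R.map f) (hR.map f)
  exact exists_comap h1 h2 (R.equivMapOfInjective f hf).toMonoidHom
    (R.equivMapOfInjective f hf).injective

variable [Finite G]

theorem not_cyclic (hG : ∀ H : Subgroup G, H.index ≠ 2) (S : Sylow 2 G) (hS : (S : Subgroup G) ≠ ⊥)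
    (g : (S : Subgroup G)) (h : ∀ x, x ∈ zpowers g) : False := by
  refine hS (CfsgLib.Fusion.eq_of_closed_of_cyclic hG S bot_le (fun x hx c _ => ?_) g.2 ?_).symm
  · rw [mem_bot.1 hx]; simp
  · intro x hx
    obtain ⟨j, hj⟩ := h ⟨x, hx⟩
    exact mem_sup_right ⟨j, congrArg Subtype.val hj⟩

theorem not_modular (hG : ∀ H : Subgroup G, H.index ≠ 2) (S : Sylow 2 G)
    {a b e : (S : Subgroup G)} (hi : (zpowers a).index = 2) (hb : b ∉ zpowers a) {m : ℕ}
    (ha : orderOf a = 2 ^ (m + 2)) (hb2 : b ^ 2 = 1) (hea : Commute e a) (he2 : e ^ 2 = 1)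
    (hem : e ^ 2 ^ m = 1) (hba : b * a * b⁻¹ = a * e) : False := by
  have hbb : b * b = 1 := by rw [← pow_two, hb2]
  have hbi : b⁻¹ = b := inv_eq_of_mul_eq_one_right hbb
  have hconj : ∀ i : ℤ, b * a ^ i * b⁻¹ = a ^ i * e ^ i := fun i => by
    rw [← conj_zpow, hba, hea.symm.mul_zpow]
  have hc2 : ∀ i : ℤ, b * a ^ (2 * i) = a ^ (2 * i) * b := fun i => by
    have := hconj (2 * i)
    rw [zpow_mul e, show e ^ (2 : ℤ) = 1 from by exact_mod_cast he2, one_zpow, mul_one] at this
    exact mul_inv_eq_iff_eq_mul.1 this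
  let M : Subgroup (S : Subgroup G) :=
    { carrier := {g | ∃ i : ℤ, g = a ^ (2 * i) ∨ g = a ^ (2 * i) * b}
      one_mem' := ⟨0, Or.inl (by simp)⟩
      mul_mem' := by
        rintro x y ⟨i, rfl | rfl⟩ ⟨j, rfl | rfl⟩
        · exact ⟨i + j, Or.inl (by rw [← zpow_add, mul_add])⟩
        · exact ⟨i + j, Or.inr (by rw [← mul_assoc, ← zpow_add, mul_add])⟩
        · exact ⟨i + j, Or.inr (by rw [mul_assoc, hc2, ← mul_assoc, ← zpow_add, mul_add])⟩
        · refine ⟨i + j, Or.inl ?_⟩
          rw [mul_assoc, ← mul_assoc b, hc2, mul_assoc, hbb, mul_one, ← zpow_add, mul_add]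
      inv_mem' := by
        rintro x ⟨i, rfl | rfl⟩
        · exact ⟨-i, Or.inl (by rw [← zpow_neg, mul_neg])⟩
        · exact ⟨-i, Or.inr (by rw [mul_inv_rev, hbi, ← zpow_neg, ← mul_neg, hc2])⟩ }
  have hw : ∀ i : ℤ, (a ^ i) ^ 2 ^ (m + 1) = 1 ↔ (2 : ℤ) ∣ i := fun i => by
    rw [← zpow_natCast, ← zpow_mul, ← orderOf_dvd_iff_zpow_eq_one, ha]
    push_cast
    rw [pow_succ' (2 : ℤ) (m + 1)]
    exact mul_dvd_mul_iff_right (by positivity)
  have hw' : ∀ i : ℤ, (a ^ i * b) ^ 2 ^ (m + 1) = (a ^ i) ^ 2 ^ (m + 1) := fun i => by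
    have e1 : (a ^ i * b) ^ 2 = (a ^ i) ^ 2 * e ^ i := by
      calc (a ^ i * b) ^ 2 = a ^ i * (b * a ^ i * b⁻¹) := by rw [hbi, pow_two]; group
        _ = (a ^ i) ^ 2 * e ^ i := by rw [hconj, pow_two]; group
    rw [pow_succ', pow_mul, pow_mul, e1,
      ((hea.symm.zpow_zpow i i).pow_left 2).mul_pow, ← zpow_natCast (e ^ i), ← zpow_mul,
      mul_comm i, zpow_mul, zpow_natCast, hem, one_zpow, mul_one]
  have key : ∀ g, g ∈ M ↔ g ^ 2 ^ (m + 1) = 1 := by
    intro g
    constructor
    · rintro ⟨i, rfl | rfl⟩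
      · exact (hw _).2 (dvd_mul_right _ _)
      · rw [hw']; exact (hw _).2 (dvd_mul_right _ _)
    · intro h
      obtain ⟨i, rfl | rfl⟩ := CfsgLib.Frob.exists_eq_zpow_or_of_index_two hi hb g
      · obtain ⟨j, rfl⟩ := (hw i).1 h
        exact ⟨j, Or.inl rfl⟩
      · rw [hw'] at h
        obtain ⟨j, rfl⟩ := (hw i).1 h
        exact ⟨j, Or.inr rfl⟩
  have h1 := CfsgLib.Fusion.eq_of_closed_of_cyclic hG S (map_subtype_le M) (g := a) (by
    rintro _ ⟨x, hx, rfl⟩ g hg
    refine ⟨⟨_, hg⟩, (key _).2 (Subtype.ext ?_), rfl⟩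
    have : (x : G) ^ 2 ^ (m + 1) = 1 := congrArg Subtype.val ((key x).1 hx)
    change (g * (x : G) * g⁻¹) ^ 2 ^ (m + 1) = 1
    rw [conj_pow, this]; simp) a.2 (by
    intro x hx
    obtain ⟨i, h | h⟩ := CfsgLib.Frob.exists_eq_zpow_or_of_index_two hi hb ⟨x, hx⟩
    · exact mem_sup_right ⟨i, (congrArg Subtype.val h).symm⟩
    · rw [show x = (a : G) ^ i * b from congrArg Subtype.val h]
      exact mul_mem (mem_sup_right (zpow_mem_zpowers _ _))
        (mem_sup_left ⟨b, ⟨0, Or.inr (by simp)⟩, rfl⟩))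
  obtain ⟨x, hx, e1⟩ : (a : G) ∈ M.map (S : Subgroup G).subtype := h1.ge a.2
  rw [show x = a from Subtype.ext e1] at hx
  have h2 := (hw 1).1 (by simpa using (key a).1 hx)
  omega

theorem sylow_types (hG : ∀ H : Subgroup G, H.index ≠ 2) (S : Sylow 2 G) (hS : (S : Subgroup G) ≠ ⊥)
    {A : Subgroup (S : Subgroup G)} (hA : IsCyclic A) (hi : A.index ∣ 2) :
    DihSylow G ∨ (∃ n : ℕ, Nonempty ((S : Subgroup G) ≃* QuaternionGroup (2 ^ (n + 1)))) ∨
      IsQuasiDihedral (S : Subgroup G) := by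
  obtain ⟨a, rfl⟩ := CfsgLib.Frob.exists_zpowers_eq_of_isCyclic hA
  rcases (Nat.dvd_prime Nat.prime_two).1 hi with hi | hi
  · exact (not_cyclic hG S hS a fun x => index_eq_one.1 hi ▸ mem_top x).elim
  obtain ⟨n, hn⟩ := IsPGroup.iff_card.1 S.isPGroup'
  have ha : orderOf a = 2 ^ (n - 1) := CfsgLib.Frob.orderOf_eq_of_index_zpowers Nat.prime_two hn hi
  have hdih : ∀ b, b ∉ zpowers a → b ^ 2 = 1 → b * a * b⁻¹ = a⁻¹ → 2 ≤ n → DihSylow G := by
    intro b hb h1 h2 h3
    obtain ⟨e⟩ := CfsgLib.Frob.nonempty_dihedral_of_gens hi ha hb h1 h2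
    obtain ⟨r, s, h⟩ := CfsgLib.DihSyl.exists_isDih e
    exact ⟨S, _, r, s, Nat.le_self_pow (by omega) 2, h⟩
  by_cases hna : ∃ x y : (S : Subgroup G), x * y ≠ y * x
  · obtain ⟨h3, b, hb, h | h | h | h⟩ := CfsgLib.Frob.cyclic_index_two hn hi hna
    · exact Or.inl (hdih b hb h.1 h.2 (by omega))
    · refine Or.inr (Or.inl ⟨n - 3, ?_⟩)
      have := CfsgLib.Frob.nonempty_quaternion_of_gens hi ha hb (by omega) h.1 h.2
      rwa [show n - 1 - 1 = n - 3 + 1 by omega] at this
    · exfalso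
      obtain ⟨m, rfl⟩ := Nat.exists_eq_add_of_le' h.1
      have e2 : (a ^ 2 ^ (m + 2)) ^ 2 = 1 := by
        rw [← pow_mul, ← pow_succ, ← orderOf_dvd_iff_pow_eq_one, ha]
        exact dvd_rfl
      refine not_modular hG S hi hb (m := m + 1) (e := a ^ 2 ^ (m + 2)) ha h.2.1
        ((Commute.refl a).pow_left _) e2 ?_ ?_
      · rw [pow_succ' 2 m, pow_mul, e2, one_pow]
      · rw [h.2.2, pow_add, pow_one]; rfl
    · exact Or.inr (Or.inr (CfsgLib.Frob.isQuasiDihedral_of_gens hi ha hb (by omega) h.2.1 h.2.2))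
  · push Not at hna
    obtain ⟨b, hb⟩ : ∃ b, b ∉ zpowers a := by
      by_contra h
      push Not at h
      exact not_cyclic hG S hS a h
    have hcyc : a ∉ zpowers b := fun h => not_cyclic hG S hS b fun x => by
      obtain ⟨i, rfl | rfl⟩ := CfsgLib.Frob.exists_eq_zpow_or_of_index_two hi hb x
      · exact zpow_mem h i
      · exact mul_mem (zpow_mem h i) (mem_zpowers b)
    obtain ⟨j, hj⟩ : b * b ∈ zpowers a := (mul_mem_iff_of_index_two hi).2 Iff.rfl
    have hj' : a ^ j = b * b := hj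
    rcases Int.even_or_odd' j with ⟨i, rfl | rfl⟩
    · have hab : Commute a b := hna a b
      have hb' : b * a ^ (-i) ∉ zpowers a := fun h => hb (by
        simpa using mul_mem h (zpow_mem_zpowers a i))
      have hb2 : (b * a ^ (-i)) ^ 2 = 1 := by
        rw [(hab.symm.zpow_right _).mul_pow, pow_two b, ← hj', ← zpow_natCast, ← zpow_mul, ← zpow_add]
        simp [mul_comm]
      have hc : b * a ^ (-i) * a * (b * a ^ (-i))⁻¹ = a := by rw [hna _ a]; group
      rcases Nat.lt_or_ge n 3 with h3 | h3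
      · have h2 : 2 ≤ n := by
          by_contra h2
          rw [show n - 1 = 0 by omega, pow_zero, orderOf_eq_one_iff] at ha
          exact hcyc (ha ▸ one_mem _)
        refine Or.inl (hdih _ hb' hb2 ?_ h2)
        rw [hc, eq_inv_iff_mul_eq_one, ← pow_two, ← orderOf_dvd_iff_pow_eq_one, ha,
          show n - 1 = 1 by omega, pow_one]
      · obtain ⟨m, rfl⟩ := Nat.exists_eq_add_of_le' h3
        exact (not_modular hG S hi hb' (m := m) (e := 1) ha hb2 (Commute.one_left a) (one_pow _)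
          (one_pow _) (by rw [hc, mul_one])).elim
    · exfalso
      refine hcyc (zpowers_le.2 (show a ^ (2 * i + 1) ∈ zpowers b from hj' ▸
        mul_mem (mem_zpowers b) (mem_zpowers b)) ?_)
      rw [mem_zpowers_zpow_iff, ha]
      push_cast
      rw [← Int.isCoprime_iff_gcd_eq_one]
      exact IsCoprime.pow_right ⟨1, -i, by ring⟩

theorem oddCore_eq_bot (hp : commutator G = ⊤) (h : OC G) : pPrimeCore 2 G = ⊥ := by
  by_contra hO
  set O := pPrimeCore 2 G with hOd
  have hodd : Odd (Nat.card O) := CfsgLib.Core.odd_card_oddCore G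
  have hZ : IsZGroup O := ⟨fun p hp P => by
    by_cases h2 : p = 2
    · subst h2
      obtain ⟨k, hk⟩ := IsPGroup.iff_card.1 P.isPGroup'
      have h1 := card_subgroup_dvd_card (P : Subgroup O)
      rcases k with _ | k
      · have : Subsingleton (P : Subgroup O) := Finite.card_le_one_iff_subsingleton.1 (by simp [hk])
        infer_instance
      · rw [hk] at h1
        exact absurd ((dvd_pow_self 2 (by omega)).trans h1) (by
          rw [← even_iff_two_dvd, Nat.not_even_iff_odd]; exact hodd)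
    · exact (h.of_injective O.subtype O.subtype_injective) p hp h2 P P.isPGroup'⟩
  obtain ⟨A, hAn, hAO, hA1, hAc⟩ : ∃ A : Subgroup G, A.Normal ∧ A ≤ O ∧ A ≠ ⊥ ∧ IsCyclic A := by
    by_cases hc : commutator O = ⊥
    · refine ⟨O, inferInstance, le_rfl, hO, ?_⟩
      have : IsMulCommutative O := ⟨⟨fun a b => by
        have : ⁅a, b⁆ ∈ commutator O := commutator_mem_commutator (mem_top a) (mem_top b)
        rw [hc, mem_bot] at this
        exact commutatorElement_eq_one_iff_mul_comm.1 this⟩⟩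
      have : Group.IsNilpotent O := by
        open scoped IsMulCommutative in exact CommGroup.isNilpotent (G := O)
      infer_instance
    · refine ⟨(commutator O).map O.subtype, inferInstance, map_subtype_le _, fun e => hc ?_, ?_⟩
      · exact (map_eq_bot_iff_of_injective _ O.subtype_injective).1 e
      · have := IsZGroup.isCyclic_commutator O
        exact isCyclic_of_surjective _ ((commutator O).equivMapOfInjective _
          O.subtype_injective).surjective
  have hAZ : A ≤ center G := by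
    let f : G →* MulAut A := MulAut.conjNormal
    let e := IsCyclic.mulAutMulEquiv A
    have h1 : commutator G ≤ (e.toMonoidHom.comp f).ker := Abelianization.commutator_subset_ker _
    intro a ha
    rw [mem_center_iff]
    intro g
    have h2 : e (f g) = 1 := h1 (hp ▸ mem_top g)
    have h3 : f g = 1 := e.injective (h2.trans (map_one e).symm)
    have h4 : g * a * g⁻¹ = a := congrArg (fun φ : MulAut A => (φ ⟨a, ha⟩ : G)) h3
    exact mul_inv_eq_iff_eq_mul.1 h4
  obtain ⟨p, hp', hd⟩ := Nat.exists_prime_and_dvd (mt card_eq_one.1 hA1)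
  have : Fact p.Prime := ⟨hp'⟩
  have h2 : p ≠ 2 := by
    rintro rfl
    exact absurd (hd.trans (card_dvd_of_le hAO)) (by
      rw [← even_iff_two_dvd, Nat.not_even_iff_odd]; exact hodd)
  obtain ⟨a, ha⟩ := exists_prime_orderOf_dvd_card' p hd
  have ha' : orderOf (a : G) = p := by rw [orderOf_coe, ha]
  obtain ⟨P, hP⟩ := (IsPGroup.of_card (G := zpowers (a : G)) (n := 1)
    (by rw [Nat.card_zpowers, ha', pow_one])).exists_le_sylow
  have hc := h p hp' h2 P P.isPGroup'
  have h3 := CfsgLib.Transfer.inf_commutator_inf_center_le_of_hall P.card_coprime_index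
    (show (a : G) ∈ (P : Subgroup G) ⊓ commutator G ⊓ center G from
      ⟨⟨hP (mem_zpowers _), hp ▸ mem_top _⟩, hAZ a.2⟩)
  rw [commutator_self_eq_bot_iff.2 inferInstance, mem_bot] at h3
  rw [h3, orderOf_one] at ha'
  exact hp'.one_lt.ne ha'

theorem two_mem (hCI : CI G) {L T : Subgroup G} (hT : IsPGroup 2 T) (hTL : T ≤ L) {u v : G}
    (hu : u ∈ T) (hv : v ∈ T) {d : ℕ} (ou : orderOf u = 2 * d) (ov : orderOf v = 2 * d)
    (ouv : orderOf (u * v) = 2 * d) (hn : v ∉ zpowers u)
    (hZ : ∀ z ∈ L, z ∈ centralizer (L : Set G) → z ^ d = 1) {c : G}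
    (hc : c ∈ centralizer (L : Set G)) {k : ℕ} (hk : c ^ 2 ^ k = 1) : c ∈ L := by
  by_contra hcL
  obtain ⟨j, h1, h2⟩ := CfsgLib.TwoGrp.Herzog.exists_pow_sq_mem L k c (hk ▸ one_mem L) hcL
  have h3 : c ^ j ∈ centralizer (L : Set G) := pow_mem hc j
  have h4 : (c ^ j) ^ 2 ^ k = 1 := by rw [← pow_mul, mul_comm, pow_mul, hk, one_pow]
  generalize c ^ j = w at h1 h2 h3 h4
  have h5 : w ^ (2 * d) = 1 := by rw [pow_mul, pow_two]; exact hZ _ h2 (mul_mem h3 h3)
  have hw : IsPGroup 2 (zpowers w) := by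
    obtain ⟨i, -, hi⟩ := (Nat.dvd_prime_pow Nat.prime_two).1 (orderOf_dvd_of_pow_eq_one h4)
    exact IsPGroup.of_card (n := i) (by rw [Nat.card_zpowers, hi])
  have hnorm : T ≤ normalizer (zpowers w : Set G) := fun x hx => centralizer_le_normalizer _ (by
    rw [mem_centralizer_iff]
    rintro _ ⟨i, rfl⟩
    exact ((show Commute x w from h3 x (hTL hx)).zpow_right i).eq.symm)
  set R := T ⊔ zpowers w with hR
  obtain ⟨A, hA, hi⟩ := hCI R (IsPGroup.to_sup_of_normal_right' hT hw hnorm)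
  have hA' : IsCyclic (A.map R.subtype) :=
    isCyclic_of_surjective _ (A.equivMapOfInjective _ R.subtype_injective).surjective
  have hmul : ∀ x ∈ R, ∀ y ∈ R, x ∉ A.map R.subtype → y ∉ A.map R.subtype →
      x * y ∈ A.map R.subtype := by
    intro x hx y hy k1 k2
    rcases (Nat.dvd_prime Nat.prime_two).1 hi with h | h
    · exact absurd ⟨⟨x, hx⟩, index_eq_one.1 h ▸ mem_top _, rfl⟩ k1
    · exact ⟨⟨x, hx⟩ * ⟨y, hy⟩, (mul_mem_iff_of_index_two h).2
        (iff_of_false (fun e => k1 ⟨_, e, rfl⟩) fun e => k2 ⟨_, e, rfl⟩), rfl⟩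
  have hwR : w ∈ R := mem_sup_right (mem_zpowers w)
  have key : ∀ x ∈ T, ∀ y ∈ T, orderOf x = 2 * d → orderOf y = 2 * d → x ∈ A.map R.subtype →
      y ∈ A.map R.subtype := by
    intro x hx y hy ox oy k1
    by_contra k2
    have k3 : ∀ g ∈ A.map R.subtype, g ^ (2 * d) = 1 → g ∈ L := fun g hg e =>
      zpowers_le.2 (hTL hx) (mem_zpowers_of_isCyclic hA' hg k1 (ox ▸ orderOf_dvd_of_pow_eq_one e))
    have k4 := k3 _ (hmul y (mem_sup_left hy) w hwR k2 fun e => h1 (k3 w e h5)) (by
      rw [(show Commute y w from h3 y (hTL hy)).mul_pow, h5, ← oy, pow_orderOf_eq_one, one_mul])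
    exact h1 ((mul_mem_cancel_left (hTL hy)).1 k4)
  have k5 : u ∈ A.map R.subtype := by
    by_contra k5
    exact k5 (key _ (mul_mem hu hv) _ hu ouv ou (hmul u (mem_sup_left hu) v (mem_sup_left hv) k5
      fun e => k5 (key _ hv _ hu ov ou e)))
  exact hn (mem_zpowers_of_isCyclic hA' (key _ hu _ hv ou ov k5) k5 (by rw [ou, ov]))

omit [Finite G] in
theorem eq_one_of_central {α : MulAut G} (hp : commutator G = ⊤)
    (h : ∀ x, α x * x⁻¹ ∈ center G) : α = 1 := by
  let f : G →* center G :=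
    { toFun := fun x => ⟨α x * x⁻¹, h x⟩
      map_one' := by simp
      map_mul' := fun x y => Subtype.ext (by
        have := mem_center_iff.1 (h y) x⁻¹
        change α (x * y) * (x * y)⁻¹ = α x * x⁻¹ * (α y * y⁻¹)
        rw [map_mul, mul_inv_rev, mul_assoc (α x) x⁻¹, this]
        group) }
  ext x
  have h1 : f x = 1 := by
    open scoped IsMulCommutative in
    exact Abelianization.commutator_subset_ker f (hp ▸ mem_top x)
  exact mul_inv_eq_one.1 (congrArg Subtype.val h1)

theorem index_sup_centralizer (L : Subgroup G) [L.Normal] (hp : commutator L = ⊤) {p : ℕ}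
    [Fact p.Prime] (h5 : 5 ≤ p) (e : L ⧸ center L ≃* PSL(2, ZMod p)) :
    (L ⊔ centralizer (L : Set G)).index ∣ 2 := by
  have hcard : Fintype.card (ZMod p) = p ^ 1 := by simp
  have hodd : Odd (Fintype.card (ZMod p)) := by
    rw [ZMod.card]
    exact (Fact.out : p.Prime).odd_of_ne_two (by omega)
  have hs : IsSimpleGroup PSL(2, ZMod p) :=
    Matrix.ProjectiveSpecialLinearGroup.rank_two_simple (by simp; omega)
  have hs' : IsSimpleGroup (L ⧸ center L) := e.isSimpleGroup
  have hZ : center (L ⧸ center L) = ⊥ := by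
    refine (hs'.eq_bot_or_eq_top_of_normal _ inferInstance).resolve_right fun h => ?_
    have h1 := CfsgLib.GW.Cor.commutator_eq_top_of_surjective
      (QuotientGroup.mk'_surjective (center L)) hp
    have h2 : commutator (L ⧸ center L) = ⊥ := by
      rw [commutator_def, commutator_eq_bot_iff_le_centralizer, coe_top, centralizer_univ, h]
    exact top_ne_bot (h1.symm.trans h2)
  have hinj : Function.Injective (MulAut.conj : L ⧸ center L →* MulAut (L ⧸ center L)) := by
    rw [injective_iff_map_eq_one]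
    intro x hx
    rw [← mem_bot, ← hZ, mem_center_iff]
    intro y
    exact (mul_inv_eq_iff_eq_mul.1 (congrArg (fun φ : MulAut (L ⧸ center L) => φ y) hx)).symm
  have hA : Nat.card (MulAut (L ⧸ center L)) = 2 * Nat.card (L ⧸ center L) := by
    rw [Nat.card_congr (MulAut.congr e).toEquiv, Nat.card_congr e.toEquiv,
      Cfsg.Agent.S0813.result p 1 le_rfl hcard 2 le_rfl (fun _ => by simp; omega),
      CfsgLib.GW.Cor.card_psl2 hodd, CfsgLib.Classical.pgl2_card]
    simp
  have hi : (MulAut.conj : L ⧸ center L →* MulAut (L ⧸ center L)).range.index = 2 := by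
    have h1 := card_mul_index (MulAut.conj : L ⧸ center L →* MulAut (L ⧸ center L)).range
    rw [← Nat.card_congr (MonoidHom.ofInjective hinj).toEquiv, hA, mul_comm] at h1
    exact Nat.eq_of_mul_eq_mul_right Nat.card_pos h1
  have hn := normal_of_index_eq_two hi
  let ρ : G →* MulAut (L ⧸ center L) := (CfsgLib.Fgs.quotAut (center L)).comp MulAut.conjNormal
  have hle : (MulAut.conj : L ⧸ center L →* MulAut (L ⧸ center L)).range.comap ρ ≤
      L ⊔ centralizer (L : Set G) := by
    rintro g ⟨x, hx⟩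
    obtain ⟨l, rfl⟩ := QuotientGroup.mk_surjective x
    have h1 : ρ l = MulAut.conj (l : L ⧸ center L) := by
      ext y
      induction y using QuotientGroup.induction_on
      rfl
    have h2 : ρ ((l : G)⁻¹ * g) = 1 := by rw [map_mul, map_inv, h1, hx, inv_mul_cancel]
    have h3 := eq_one_of_central hp ((CfsgLib.Fgs.mem_ker_quotAut _ _).1 h2)
    have h4 : (l : G)⁻¹ * g ∈ centralizer (L : Set G) := fun y hy =>
      (mul_inv_eq_iff_eq_mul.1 (congrArg (fun φ : MulAut L => (φ ⟨y, hy⟩ : G)) h3)).symm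
    have := mul_mem (mem_sup_left (T := centralizer (L : Set G)) l.2) (mem_sup_right h4)
    rwa [mul_inv_cancel_left] at this
  refine (index_dvd_of_le hle).trans ?_
  rw [index_comap, ← hi]
  exact relIndex_dvd_index_of_normal _ _

theorem exists_prod (hOC : OC G) (L : Subgroup G) [L.Normal]
    (h2 : ∀ c ∈ centralizer (L : Set G), ∀ k : ℕ, c ^ 2 ^ k = 1 → c ∈ L)
    (hZ : ∀ z ∈ L, z ∈ centralizer (L : Set G) → z ^ 2 = 1) :
    ∃ X : Subgroup ↥(L ⊔ centralizer (L : Set G)), X.Normal ∧ X ⊓ L.subgroupOf _ = ⊥ ∧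
      X ⊔ L.subgroupOf _ = ⊤ ∧ (Nat.card X).Coprime (Nat.card L) ∧ Odd (Nat.card X) ∧
      ∃ (C : Subgroup X) (_ : C.Normal), IsCyclic C ∧ IsCyclic (X ⧸ C) := by
  set C := centralizer (L : Set G) with hC
  obtain ⟨P⟩ : Nonempty (Sylow 2 C) := inferInstance
  have hPL : ∀ c ∈ (P : Subgroup C), (c : G) ∈ L := fun c hc => by
    obtain ⟨k, hk⟩ := P.isPGroup' ⟨c, hc⟩
    exact h2 c c.2 k (congrArg (fun x : (P : Subgroup C) => ((x : C) : G)) hk)
  have hP : normalizer ((P : Subgroup C) : Set C) ≤ centralizer ((P : Subgroup C) : Set C) :=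
    fun g _ c hc => Subtype.ext (g.2 c (hPL c hc))
  have hK := MonoidHom.ker_transferSylow_isComplement' P hP
  set K := (MonoidHom.transferSylow P hP).ker with hKd
  have hKo : Odd (Nat.card K) := by
    rw [← hK.index_eq_card, ← Nat.not_even_iff_odd, even_iff_two_dvd]
    exact P.not_dvd_index
  let X0 : Subgroup G := K.map C.subtype
  have hX0 : X0 ≤ C := map_subtype_le K
  have hc0 : Nat.card X0 = Nat.card K := card_map_of_injective C.subtype_injective
  have hle : X0 ≤ L ⊔ C := hX0.trans le_sup_right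
  have hc1 : Nat.card (X0.subgroupOf (L ⊔ C)) = Nat.card K :=
    (Nat.card_congr (subgroupOfEquivOfLe hle).toEquiv).trans hc0
  have hbot : ∀ x ∈ X0, x ∈ L → x = 1 := fun x hx hl => by
    rw [← orderOf_eq_one_iff]
    exact Nat.eq_one_of_dvd_coprimes (by simpa using hc0 ▸ hKo : Nat.Coprime 2 (Nat.card X0))
      (orderOf_dvd_of_pow_eq_one (hZ x hl (hX0 hx))) (orderOf_dvd_natCard _ hx)
  have hodd : Odd (Nat.card (X0.subgroupOf (L ⊔ C))) := hc1 ▸ hKo
  refine ⟨X0.subgroupOf _, (normal_subgroupOf_iff_le_normalizer hle).2 (sup_le ?_ ?_), ?_, ?_, ?_,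
    hodd, ?_⟩
  · exact fun l hl => centralizer_le_normalizer _ fun x hx => (hX0 hx l hl).symm
  · exact (normal_subgroupOf_iff_le_normalizer hX0).1 (by
      rw [show X0.subgroupOf C = K from comap_map_eq_self_of_injective C.subtype_injective K]
      infer_instance)
  · rw [eq_bot_iff]
    rintro x ⟨h3, h4⟩
    exact Subtype.ext (hbot x h3 h4)
  · rw [← subgroupOf_sup hle le_sup_left, subgroupOf_eq_top]
    refine sup_le le_sup_right fun c hc => ?_
    obtain ⟨⟨k, s⟩, h3⟩ := hK.2 ⟨c, hc⟩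
    rw [show c = ((k : C) : G) * (s : C) from (congrArg Subtype.val h3).symm]
    exact mul_mem (mem_sup_left ⟨k, k.2, rfl⟩) (mem_sup_right (hPL _ s.2))
  · rw [hc1, ← hc0]
    refine Nat.coprime_of_dvd fun r hr h3 h4 => ?_
    have : Fact r.Prime := ⟨hr⟩
    obtain ⟨x, hx⟩ := exists_prime_orderOf_dvd_card' r h3
    obtain ⟨l, hl⟩ := exists_prime_orderOf_dvd_card' r h4
    rw [← orderOf_coe] at hx hl
    have hr2 : r ≠ 2 := by
      rintro rfl
      rw [hc0, ← even_iff_two_dvd, ← Nat.not_odd_iff_even] at h3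
      exact h3 hKo
    have h5 := hbot x x.2 (zpowers_le.2 l.2 (hOC.mem_zpowers hr hr2 hl hx (hX0 x.2 l l.2)))
    rw [h5, orderOf_one] at hx
    exact hr.one_lt.ne hx
  · have hZ : IsZGroup (X0.subgroupOf (L ⊔ C)) := ⟨fun p hp Q => by
      by_cases h2 : p = 2
      · subst h2
        obtain ⟨k, hk⟩ := IsPGroup.iff_card.1 Q.isPGroup'
        have h1 := card_subgroup_dvd_card (Q : Subgroup (X0.subgroupOf (L ⊔ C)))
        rcases k with _ | k
        · have : Subsingleton (Q : Subgroup (X0.subgroupOf (L ⊔ C))) :=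
            Finite.card_le_one_iff_subsingleton.1 (by simp [hk])
          infer_instance
        · rw [hk] at h1
          exact absurd ((dvd_pow_self 2 (by omega)).trans h1) (by
            rw [← even_iff_two_dvd, Nat.not_even_iff_odd]; exact hodd)
      · exact ((hOC.of_injective _ (L ⊔ C).subtype_injective).of_injective _
          (X0.subgroupOf (L ⊔ C)).subtype_injective) p hp h2 Q Q.isPGroup'⟩
    exact ⟨commutator _, inferInstance, IsZGroup.isCyclic_commutator _,
      IsZGroup.isCyclic_abelianization⟩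

end

end CfsgLib.ABG.Asc
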